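import Cfsg.Agent.Omega.NOne.LemmaT
import Cfsg.Agent.ZN.Map

/-!
# NO-1, type (beta), `q = 2`: the five points of `V = O₄⁻(2)`

`z : Fin 5 → G` are five involutions, pairwise commuting, with product `1`, permuted by `P` at least by
the alternating group.
-/

set_option autoImplicit false
set_option Elab.async false

namespace Cfsg.Agent.Omega.NOne.BetaTwo.Basic

open Subgroup Equiv Cfsg Cfsg.Agent.MinSimple.VModule Cfsg.Agent.MinSimple.Basic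
open Cfsg.Agent.ZN (o2 o2_map)

universe u

/-! ### Five points -/

theorem five : ∀ i j k l m a : Fin 5, [i, j, k, l, m].Nodup →
    a = i ∨ a = j ∨ a = k ∨ a = l ∨ a = m := by
  decide +kernel

theorem ne1 : ∀ i : Fin 5, ∃ j, i ≠ j := by decide

theorem ext2 : ∀ i j : Fin 5, i ≠ j → ∃ k l m, [i, j, k, l, m].Nodup := by
  decide +kernel

theorem ext3 : ∀ i j k : Fin 5, i ≠ j → i ≠ k → j ≠ k → ∃ l m, [i, j, k, l, m].Nodup := by
  decide +kernel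

theorem perm0 : ∀ σ : Perm (Fin 5), σ 0 = 0 → σ ^ 4 = 1 →
    (∀ τ : Perm (Fin 5), Perm.sign τ = 1 → τ 0 = 0 → (σ * (τ * σ⁻¹ * τ⁻¹)) ^ 4 = 1) →
    σ = 1 ∨ (σ * σ = 1 ∧ ∀ j, j ≠ 0 → σ j ≠ j) := by
  decide +kernel

theorem nd {i j k l m : Fin 5} (h : [i, j, k, l, m].Nodup) :
    i ≠ j ∧ i ≠ k ∧ i ≠ l ∧ i ≠ m ∧ j ≠ k ∧ j ≠ l ∧ j ≠ m ∧ k ≠ l ∧ k ≠ m ∧ l ≠ m := by
  simp only [List.nodup_cons, List.mem_cons, List.not_mem_nil, not_or, or_false] at h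
  tauto

/-- the permutation with given values -/
theorem exists_perm {i j k l m : Fin 5} (h : [i, j, k, l, m].Nodup) :
    ∃ σ : Perm (Fin 5), σ 0 = i ∧ σ 1 = j ∧ σ 2 = k ∧ σ 3 = l ∧ σ 4 = m := by
  have hs : Function.Surjective ![i, j, k, l, m] := by
    intro a
    rcases five i j k l m a h with h | h | h | h | h
    · exact ⟨0, by simp [h]⟩
    · exact ⟨1, by simp [h]⟩
    · exact ⟨2, by simp [h]⟩
    · exact ⟨3, by simp [h]⟩
    · exact ⟨4, by simp [h]⟩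
  have hb : Function.Bijective ![i, j, k, l, m] := Finite.surjective_iff_bijective.1 hs
  exact ⟨Equiv.ofBijective _ hb, rfl, rfl, rfl, rfl, rfl⟩

theorem exists_perm' {i j k l m i' j' k' l' m' : Fin 5} (h : [i, j, k, l, m].Nodup)
    (h' : [i', j', k', l', m'].Nodup) :
    ∃ σ : Perm (Fin 5), σ i = i' ∧ σ j = j' ∧ σ k = k' ∧ σ l = l' ∧ σ m = m' := by
  obtain ⟨a, h0, h1, h2, h3, h4⟩ := exists_perm h
  obtain ⟨b, g0, g1, g2, g3, g4⟩ := exists_perm h'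
  refine ⟨b * a⁻¹, ?_, ?_, ?_, ?_, ?_⟩
  · rw [← h0]; simpa using g0
  · rw [← h1]; simpa using g1
  · rw [← h2]; simpa using g2
  · rw [← h3]; simpa using g3
  · rw [← h4]; simpa using g4

/-- `A₅` is 3-transitive -/
theorem exists_even {i j k i' j' k' : Fin 5} (h1 : i ≠ j) (h2 : i ≠ k) (h3 : j ≠ k)
    (h1' : i' ≠ j') (h2' : i' ≠ k') (h3' : j' ≠ k') :
    ∃ σ : Perm (Fin 5), Perm.sign σ = 1 ∧ σ i = i' ∧ σ j = j' ∧ σ k = k' := by
  obtain ⟨l, m, h⟩ := ext3 i j k h1 h2 h3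
  obtain ⟨l', m', h'⟩ := ext3 i' j' k' h1' h2' h3'
  obtain ⟨σ, g1, g2, g3, g4, g5⟩ := exists_perm' h h'
  obtain ⟨n1, n2, n3, n4, n5, n6, n7, n8, n9, n10⟩ := nd h'
  rcases Int.units_eq_one_or (Perm.sign σ) with hs | hs
  · exact ⟨σ, hs, g1, g2, g3⟩
  · refine ⟨swap l' m' * σ, ?_, ?_, ?_, ?_⟩
    · rw [Perm.sign_mul, hs, Perm.sign_swap n10]; rfl
    · rw [Perm.mul_apply, g1, swap_apply_of_ne_of_ne n3 n4]
    · rw [Perm.mul_apply, g2, swap_apply_of_ne_of_ne n6 n7]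
    · rw [Perm.mul_apply, g3, swap_apply_of_ne_of_ne n8 n9]

theorem perm_i {i : Fin 5} {σ : Perm (Fin 5)} (h0 : σ i = i) (h4 : σ ^ 4 = 1)
    (h : ∀ τ : Perm (Fin 5), Perm.sign τ = 1 → τ i = i → (σ * (τ * σ⁻¹ * τ⁻¹)) ^ 4 = 1) :
    σ = 1 ∨ (σ * σ = 1 ∧ ∀ j, j ≠ i → σ j ≠ j) := by
  set ρ : Perm (Fin 5) := swap 0 i with hρ
  have hρρ : ρ * ρ = 1 := swap_mul_self _ _
  have hρi : ρ⁻¹ = ρ := swap_inv _ _
  have hρ0 : ρ 0 = i := swap_apply_left _ _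
  have hρ1 : ρ i = 0 := swap_apply_right _ _
  have h1 := perm0 (ρ * σ * ρ⁻¹) (by simp [hρi, hρ0, hρ1, h0]) (by rw [conj_pow, h4]; simp) ?_
  · rcases h1 with h1 | ⟨h1, h2⟩
    · left
      have : σ = ρ⁻¹ * (ρ * σ * ρ⁻¹) * ρ := by group
      rw [this, h1]; group
    · right
      constructor
      · have : σ * σ = ρ⁻¹ * ((ρ * σ * ρ⁻¹) * (ρ * σ * ρ⁻¹)) * ρ := by group
        rw [this, h1]; group
      · intro j hj hj2
        refine h2 (ρ j) ?_ ?_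
        · intro h3
          apply hj
          have : ρ (ρ j) = j := by rw [← Perm.mul_apply, hρρ]; rfl
          rw [← this, h3, hρ0]
        · rw [hρi, Perm.mul_apply, Perm.mul_apply, ← Perm.mul_apply, ← Perm.mul_apply]
          have : ρ (ρ j) = j := by rw [← Perm.mul_apply, hρρ]; rfl
          simp [this, hj2]
  · intro τ hτ hτ0
    have h3 := h (ρ⁻¹ * τ * ρ) ?_ (by simp [hρi, hρ0, hρ1, hτ0])
    · have : ρ * σ * ρ⁻¹ * (τ * (ρ * σ * ρ⁻¹)⁻¹ * τ⁻¹) =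
        ρ * (σ * (ρ⁻¹ * τ * ρ * σ⁻¹ * (ρ⁻¹ * τ * ρ)⁻¹)) * ρ⁻¹ := by group
      rw [this, conj_pow, h3]; simp
    · rw [Perm.sign_mul, Perm.sign_mul, hτ, mul_one, ← Perm.sign_mul, inv_mul_cancel, Perm.sign_one]

/-! ### The hypothesis -/

variable {G : Type u} [Group G]

/-- Five points permuted by `P`, at least by `A₅`. -/
structure Hyp (P : Subgroup G) (z : Fin 5 → G) : Prop where
  inj : Function.Injective z
  sq : ∀ i, z i * z i = 1
  comm : ∀ i j, z i * z j = z j * z i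
  prod : z 0 * z 1 * z 2 * z 3 * z 4 = 1
  act : ∀ p ∈ P, ∃ σ : Perm (Fin 5), ∀ i, p * z i * p⁻¹ = z (σ i)
  alt : ∀ σ : Perm (Fin 5), Perm.sign σ = 1 → ∃ p ∈ P, ∀ i, p * z i * p⁻¹ = z (σ i)

/-- `V = ⟨z_i⟩` -/
def V (z : Fin 5 → G) : Subgroup G := closure (Set.range z)

/-- `C_i = C_G(z_i)` -/
def C (z : Fin 5 → G) (i : Fin 5) : Subgroup G := centralizer {z i}

/-- `Q_i = O₂(C_i)` -/
def Q (z : Fin 5 → G) (i : Fin 5) : Subgroup G := o2 (C z i)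

variable {P : Subgroup G} {z : Fin 5 → G}

theorem mem_C {i : Fin 5} {x : G} : x ∈ C z i ↔ x * z i * x⁻¹ = z i := by
  rw [C, mem_centralizer_singleton_iff]
  constructor
  · intro h; rw [h]; group
  · intro h
    calc x * z i = (x * z i * x⁻¹) * x := by group
      _ = z i * x := by rw [h]

theorem z_mem (i : Fin 5) : z i ∈ V z := subset_closure ⟨i, rfl⟩

theorem Hyp.zinv (h : Hyp P z) (i : Fin 5) : (z i)⁻¹ = z i := inv_eq_of_mul_eq_one_right (h.sq i)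

theorem Hyp.exP (h : Hyp P z) {i j k i' j' k' : Fin 5} (h1 : i ≠ j) (h2 : i ≠ k) (h3 : j ≠ k)
    (h1' : i' ≠ j') (h2' : i' ≠ k') (h3' : j' ≠ k') : ∃ p ∈ P, ∃ σ : Perm (Fin 5),
      (∀ i, p * z i * p⁻¹ = z (σ i)) ∧ σ i = i' ∧ σ j = j' ∧ σ k = k' := by
  obtain ⟨σ, hs, hσ⟩ := exists_even h1 h2 h3 h1' h2' h3'
  obtain ⟨p, hp, hpσ⟩ := h.alt σ hs
  exact ⟨p, hp, σ, hpσ, hσ⟩

theorem Hyp.exP2 (h : Hyp P z) {i j i' j' : Fin 5} (h1 : i ≠ j) (h1' : i' ≠ j') :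
    ∃ p ∈ P, ∃ σ : Perm (Fin 5), (∀ i, p * z i * p⁻¹ = z (σ i)) ∧ σ i = i' ∧ σ j = j' := by
  obtain ⟨k, l, m, hn⟩ := ext2 i j h1
  obtain ⟨k', l', m', hn'⟩ := ext2 i' j' h1'
  obtain ⟨n1, n2, n3, n4, n5, n6, n7, n8, n9, n10⟩ := nd hn
  obtain ⟨n1', n2', n3', n4', n5', n6', n7', n8', n9', n10'⟩ := nd hn'
  obtain ⟨p, hp, σ, hσ, h3, h4, -⟩ := h.exP n1 n2 n5 n1' n2' n5'
  exact ⟨p, hp, σ, hσ, h3, h4⟩

theorem Hyp.exP1 (h : Hyp P z) (i i' : Fin 5) :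
    ∃ p ∈ P, ∃ σ : Perm (Fin 5), (∀ i, p * z i * p⁻¹ = z (σ i)) ∧ σ i = i' := by
  obtain ⟨j, hj⟩ := ne1 i
  obtain ⟨j', hj'⟩ := ne1 i'
  obtain ⟨p, hp, σ, hσ, h3, -⟩ := h.exP2 hj hj'
  exact ⟨p, hp, σ, hσ, h3⟩

/-! ### The elements of `V` -/

theorem Hyp.prod' (h : Hyp P z) {i j k l m : Fin 5} (hn : [i, j, k, l, m].Nodup) :
    z i * z j * z k * z l * z m = 1 := by
  obtain ⟨σ, h0, h1, h2, h3, h4⟩ := exists_perm hn
  rcases Int.units_eq_one_or (Perm.sign σ) with hs | hs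
  · obtain ⟨p, hp, hpσ⟩ := h.alt σ hs
    have : p * (z 0 * z 1 * z 2 * z 3 * z 4) * p⁻¹ = (p * z 0 * p⁻¹) * (p * z 1 * p⁻¹) *
      (p * z 2 * p⁻¹) * (p * z 3 * p⁻¹) * (p * z 4 * p⁻¹) := by group
    rw [h.prod, hpσ, hpσ, hpσ, hpσ, hpσ, h0, h1, h2, h3, h4] at this
    rw [← this]; group
  · have hs' : Perm.sign (σ * swap 3 4) = 1 := by
      rw [Perm.sign_mul, hs, Perm.sign_swap (by decide)]; rfl
    obtain ⟨p, hp, hpσ⟩ := h.alt _ hs'
    have : p * (z 0 * z 1 * z 2 * z 3 * z 4) * p⁻¹ = (p * z 0 * p⁻¹) * (p * z 1 * p⁻¹) *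
      (p * z 2 * p⁻¹) * (p * z 3 * p⁻¹) * (p * z 4 * p⁻¹) := by group
    have e0 : (σ * swap 3 4 : Perm (Fin 5)) 0 = i := by rw [Perm.mul_apply, swap_apply_of_ne_of_ne (by decide) (by decide), h0]
    have e1 : (σ * swap 3 4 : Perm (Fin 5)) 1 = j := by rw [Perm.mul_apply, swap_apply_of_ne_of_ne (by decide) (by decide), h1]
    have e2 : (σ * swap 3 4 : Perm (Fin 5)) 2 = k := by rw [Perm.mul_apply, swap_apply_of_ne_of_ne (by decide) (by decide), h2]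
    have e3 : (σ * swap 3 4 : Perm (Fin 5)) 3 = m := by rw [Perm.mul_apply, swap_apply_left, h4]
    have e4 : (σ * swap 3 4 : Perm (Fin 5)) 4 = l := by rw [Perm.mul_apply, swap_apply_right, h3]
    rw [h.prod, hpσ, hpσ, hpσ, hpσ, hpσ, e0, e1, e2, e3, e4] at this
    have h5 : z i * z j * z k * z l * z m = z i * z j * z k * z m * z l := by
      rw [mul_assoc (z i * z j * z k), h.comm l m, ← mul_assoc]
    rw [h5, ← this]; group

/-- `z_i z_j z_k = z_l z_m` -/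
theorem Hyp.three (h : Hyp P z) {i j k l m : Fin 5} (hn : [i, j, k, l, m].Nodup) :
    z i * z j * z k = z l * z m := by
  have h1 := h.prod' hn
  calc z i * z j * z k = (z i * z j * z k * z l * z m) * (z m * z m) ⁻¹ * (z m * (z l * z l)⁻¹ * z l) := by group
    _ = z m * z l := by rw [h1, h.sq, h.sq]; group
    _ = z l * z m := h.comm _ _

theorem Hyp.ne_one (h : Hyp P z) (i : Fin 5) : z i ≠ 1 := by
  intro h1
  obtain ⟨j, hj⟩ := ne1 i
  obtain ⟨p, -, σ, hσ, h3⟩ := h.exP1 i j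
  have := hσ i
  rw [h1, h3] at this
  apply hj
  apply h.inj
  rw [h1, ← this]; group

theorem Hyp.mul_ne_one (h : Hyp P z) {i j : Fin 5} (hij : i ≠ j) : z i * z j ≠ 1 := by
  intro h1
  apply hij
  apply h.inj
  rw [← h.zinv j]
  exact eq_inv_of_mul_eq_one_left h1

theorem Hyp.mul_ne (h : Hyp P z) {i j : Fin 5} (hij : i ≠ j) (k : Fin 5) : z i * z j ≠ z k := by
  intro h1
  by_cases hik : i = k
  · subst hik
    exact h.ne_one j (mul_eq_left.1 h1)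
  by_cases hjk : j = k
  · subst hjk
    exact h.ne_one i (mul_eq_right.1 h1)
  obtain ⟨l, m, hn⟩ := ext3 i j k hij hik hjk
  obtain ⟨n1, n2, n3, n4, n5, n6, n7, n8, n9, n10⟩ := nd hn
  obtain ⟨p, hp, σ, hσ, e1, e2, e3⟩ := h.exP n1 n2 n5 n1 n3 n6
  have h2 : p * (z i * z j) * p⁻¹ = (p * z i * p⁻¹) * (p * z j * p⁻¹) := by group
  rw [h1, hσ, hσ, hσ, e1, e2, e3, h1] at h2
  exact n8 (h.inj h2.symm)

/-- disjoint pairs have different products -/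
theorem Hyp.mul_ne_mul (h : Hyp P z) {i j k l m : Fin 5} (hn : [i, j, k, l, m].Nodup) :
    z i * z j ≠ z k * z l := by
  intro h1
  have h2 := h.prod' hn
  rw [mul_assoc (z i * z j), h1] at h2
  have h3 : z k * z l * (z k * z l) * z m = z m := by
    rw [← mul_assoc, mul_assoc (z k), h.comm l k, ← mul_assoc, h.sq, one_mul, h.sq, one_mul]
  exact h.ne_one m (h3.symm.trans h2)

theorem Hyp.mem_V (h : Hyp P z) {v : G} (hv : v ∈ V z) :
    v = 1 ∨ (∃ i, v = z i) ∨ ∃ i j, i ≠ j ∧ v = z i * z j := by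
  induction hv using closure_induction_left with
  | one => exact Or.inl rfl
  | @mul_left x hx y hy ih =>
    obtain ⟨a, rfl⟩ := hx
    rcases ih with rfl | ⟨i, rfl⟩ | ⟨i, j, hij, rfl⟩
    · exact Or.inr (Or.inl ⟨a, mul_one _⟩)
    · by_cases hai : a = i
      · subst hai
        exact Or.inl (h.sq _)
      · exact Or.inr (Or.inr ⟨a, i, hai, rfl⟩)
    · by_cases hai : a = i
      · subst hai
        exact Or.inr (Or.inl ⟨j, by rw [← mul_assoc, h.sq, one_mul]⟩)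
      by_cases haj : a = j
      · subst haj
        exact Or.inr (Or.inl ⟨i, by rw [h.comm i a, ← mul_assoc, h.sq, one_mul]⟩)
      obtain ⟨l, m, hn⟩ := ext3 a i j hai haj hij
      exact Or.inr (Or.inr ⟨l, m, (nd hn).2.2.2.2.2.2.2.2.2, by rw [← mul_assoc]; exact h.three hn⟩)
  | @inv_mul_cancel x hx y hy ih =>
    obtain ⟨a, rfl⟩ := hx
    rw [h.zinv]
    rcases ih with rfl | ⟨i, rfl⟩ | ⟨i, j, hij, rfl⟩
    · exact Or.inr (Or.inl ⟨a, mul_one _⟩)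
    · by_cases hai : a = i
      · subst hai
        exact Or.inl (h.sq _)
      · exact Or.inr (Or.inr ⟨a, i, hai, rfl⟩)
    · by_cases hai : a = i
      · subst hai
        exact Or.inr (Or.inl ⟨j, by rw [← mul_assoc, h.sq, one_mul]⟩)
      by_cases haj : a = j
      · subst haj
        exact Or.inr (Or.inl ⟨i, by rw [h.comm i a, ← mul_assoc, h.sq, one_mul]⟩)
      obtain ⟨l, m, hn⟩ := ext3 a i j hai haj hij
      exact Or.inr (Or.inr ⟨l, m, (nd hn).2.2.2.2.2.2.2.2.2, by rw [← mul_assoc]; exact h.three hn⟩)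

theorem Hyp.comm_V (h : Hyp P z) {v w : G} (hv : v ∈ V z) (hw : w ∈ V z) : v * w = w * v := by
  have h0 : V z ≤ centralizer (Set.range z) := by
    rw [V, closure_le]
    rintro _ ⟨i, rfl⟩
    rw [SetLike.mem_coe, mem_centralizer_iff]
    rintro _ ⟨j, rfl⟩
    exact h.comm j i
  have h1 : closure (Set.range z) ≤ centralizer (V z : Set G) := by
    rw [closure_le]
    rintro _ ⟨i, rfl⟩
    rw [SetLike.mem_coe, mem_centralizer_iff]
    intro y hy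
    exact (mem_centralizer_iff.1 (h0 hy) (z i) ⟨i, rfl⟩).symm
  exact (mem_centralizer_iff.1 (h1 hv) w hw).symm

theorem Hyp.sq_V (h : Hyp P z) {v : G} (hv : v ∈ V z) : v * v = 1 := by
  rcases h.mem_V hv with rfl | ⟨i, rfl⟩ | ⟨i, j, hij, rfl⟩
  · simp
  · exact h.sq i
  · rw [← mul_assoc, mul_assoc (z i), h.comm j i, ← mul_assoc, h.sq, one_mul, h.sq]

theorem Hyp.V_le_C (h : Hyp P z) (i : Fin 5) : V z ≤ C z i := fun v hv =>
  mem_C.2 (by rw [h.comm_V hv (z_mem i)]; group)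

theorem mem_cV {x : G} : x ∈ centralizer (V z : Set G) ↔ ∀ i, x * z i * x⁻¹ = z i := by
  constructor
  · intro hx i
    have := mem_centralizer_iff.1 hx (z i) (z_mem i)
    rw [← this]; group
  · intro hx
    rw [V, centralizer_closure, mem_centralizer_iff]
    rintro _ ⟨i, rfl⟩
    calc z i * x = (x * z i * x⁻¹) * x := by rw [hx i]
      _ = x * z i := by group

theorem cV_le_C (i : Fin 5) : centralizer (V z : Set G) ≤ C z i := fun _ hx => mem_C.2 (mem_cV.1 hx i)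

/-! ### Conjugation by the elements of `P` -/

/-- `p` moves the points as `σ` does. -/
def Act (z : Fin 5 → G) (p : G) (σ : Perm (Fin 5)) : Prop := ∀ i, p * z i * p⁻¹ = z (σ i)

theorem Act.inv {p : G} {σ : Perm (Fin 5)} (h : Act z p σ) : Act z p⁻¹ σ⁻¹ := by
  intro i
  have h1 := h (σ⁻¹ i)
  rw [show σ (σ⁻¹ i) = i from σ.apply_symm_apply i] at h1
  rw [← h1]; group

theorem Act.mul {p q : G} {σ τ : Perm (Fin 5)} (hp : Act z p σ) (hq : Act z q τ) : Act z (p * q) (σ * τ) := by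
  intro i
  have : p * q * z i * (p * q)⁻¹ = p * (q * z i * q⁻¹) * p⁻¹ := by group
  rw [this, hq, hp]; rfl

theorem Act.one : Act z 1 1 := fun i => by simp

theorem Act.pow {p : G} {σ : Perm (Fin 5)} (h : Act z p σ) (n : ℕ) : Act z (p ^ n) (σ ^ n) := by
  induction n with
  | zero => simpa using Act.one
  | succ n ih => rw [pow_succ, pow_succ]; exact ih.mul h

theorem Hyp.perm_eq (h : Hyp P z) {p : G} {σ τ : Perm (Fin 5)} (h1 : Act z p σ) (h2 : Act z p τ) : σ = τ := by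
  ext i
  rw [h.inj ((h1 i).symm.trans (h2 i))]

theorem Hyp.act_one (h : Hyp P z) {σ : Perm (Fin 5)} (h1 : Act z (1 : G) σ) : σ = 1 := h.perm_eq h1 Act.one

theorem mem_cV_iff_act {x : G} : x ∈ centralizer (V z : Set G) ↔ Act z x 1 := mem_cV

theorem Act.mapV {p v : G} {σ : Perm (Fin 5)} (h : Act z p σ) (hv : v ∈ V z) : p * v * p⁻¹ ∈ V z := by
  induction hv using closure_induction with
  | mem x hx =>
    obtain ⟨i, rfl⟩ := hx
    rw [h i]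
    exact z_mem _
  | one => simp
  | mul x y _ _ hx hy =>
    have : p * (x * y) * p⁻¹ = (p * x * p⁻¹) * (p * y * p⁻¹) := by group
    rw [this]; exact mul_mem hx hy
  | inv x _ hx =>
    have : p * x⁻¹ * p⁻¹ = (p * x * p⁻¹)⁻¹ := by group
    rw [this]; exact inv_mem hx

theorem Act.mapC {p x : G} {σ : Perm (Fin 5)} (h : Act z p σ) {i : Fin 5} (hx : x ∈ C z i) :
    p * x * p⁻¹ ∈ C z (σ i) := by
  rw [mem_C] at hx ⊢
  rw [← h i]
  calc p * x * p⁻¹ * (p * z i * p⁻¹) * (p * x * p⁻¹)⁻¹ = p * (x * z i * x⁻¹) * p⁻¹ := by group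
    _ = p * z i * p⁻¹ := by rw [hx]

theorem Act.mapcV {p x : G} {σ : Perm (Fin 5)} (h : Act z p σ) (hx : x ∈ centralizer (V z : Set G)) :
    p * x * p⁻¹ ∈ centralizer (V z : Set G) := by
  rw [mem_cV_iff_act] at hx ⊢
  have := (h.mul hx).mul h.inv
  simpa using this

theorem map_eq_of {A B : Subgroup G} {p : G} (h1 : ∀ x ∈ A, p * x * p⁻¹ ∈ B)
    (h2 : ∀ x ∈ B, p⁻¹ * x * p⁻¹⁻¹ ∈ A) : A.map (MulAut.conj p).toMonoidHom = B := by
  ext y
  rw [mem_map]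
  constructor
  · rintro ⟨x, hx, rfl⟩
    exact h1 x hx
  · intro hy
    exact ⟨_, h2 y hy, by simp; group⟩

theorem o2_conj {A B : Subgroup G} {p : G} (h1 : ∀ x ∈ A, p * x * p⁻¹ ∈ B)
    (h2 : ∀ x ∈ B, p⁻¹ * x * p⁻¹⁻¹ ∈ A) {x : G} (hx : x ∈ o2 A) : p * x * p⁻¹ ∈ o2 B := by
  rw [← map_eq_of h1 h2, o2_map _ (MulAut.conj p).injective]
  exact ⟨x, hx, rfl⟩

theorem Act.mapC' {p x : G} {σ : Perm (Fin 5)} (h : Act z p σ) {i : Fin 5} (hx : x ∈ C z (σ i)) :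
    p⁻¹ * x * p⁻¹⁻¹ ∈ C z i := by
  have := h.inv.mapC hx
  rwa [show σ⁻¹ (σ i) = i from σ.symm_apply_apply i] at this

theorem Act.mapQ {p x : G} {σ : Perm (Fin 5)} (h : Act z p σ) {i : Fin 5} (hx : x ∈ Q z i) :
    p * x * p⁻¹ ∈ Q z (σ i) :=
  o2_conj (fun _ hx => h.mapC hx) (fun _ hx => h.mapC' hx) hx

end Cfsg.Agent.Omega.NOne.BetaTwo.Basic
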