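import Cfsg.Agent.Omega.NOne.BetaTwo.Four

/-!
# NO-1, type (beta), `q = 2`: steps (2) - (4): `Q_i* = ⟨(V ∩ Q_i)^{C_i}⟩` and `D_i = C_{Q_i}(Q_i*)`
-/

set_option autoImplicit false
set_option Elab.async false

namespace Cfsg.Agent.Omega.NOne.BetaTwo.DOne

open Subgroup Equiv Cfsg Cfsg.Agent.MinSimple.VModule Cfsg.Agent.MinSimple.Basic
open Cfsg.Agent.Omega.NOne.BetaTwo.Basic Cfsg.Agent.Omega.NOne.BetaTwo.Four
open Cfsg.Agent.Omega.NOne.LemmaT (exists_pow_eq_one exists_pow_comm)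
open Cfsg.Agent.ZN (o2 o2_map)

universe u

variable {G : Type u} [Group G]

/-! ### A stability lemma -/

/-- the elements of `C` centralising `F` and moving the elements of `R` by elements of `F` -/
def stab (C R F : Subgroup G) : Subgroup G where
  carrier := {x | x ∈ C ∧ (∀ f ∈ F, x * f = f * x) ∧ ∀ r ∈ R, x * r * x⁻¹ * r⁻¹ ∈ F}
  one_mem' := ⟨one_mem _, fun f _ => by simp, fun r _ => by simp⟩
  mul_mem' := by
    rintro x y ⟨hx, hxf, hxr⟩ ⟨hy, hyf, hyr⟩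
    refine ⟨mul_mem hx hy, fun f hf => ?_, fun r hr => ?_⟩
    · rw [mul_assoc, hyf f hf, ← mul_assoc, hxf f hf, mul_assoc]
    · have h2 : x * y * r * (x * y)⁻¹ * r⁻¹ =
          (x * (y * r * y⁻¹ * r⁻¹) * x⁻¹) * (x * r * x⁻¹ * r⁻¹) := by group
      rw [h2, hxf _ (hyr r hr), mul_inv_cancel_right]
      exact mul_mem (hyr r hr) (hxr r hr)
  inv_mem' := by
    rintro x ⟨hx, hxf, hxr⟩
    have hxf' : ∀ f ∈ F, x⁻¹ * f = f * x⁻¹ := fun f hf => by
      have := hxf f hf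
      calc x⁻¹ * f = x⁻¹ * (f * x) * x⁻¹ := by group
        _ = x⁻¹ * (x * f) * x⁻¹ := by rw [this]
        _ = f * x⁻¹ := by group
    refine ⟨inv_mem hx, hxf', fun r hr => ?_⟩
    have h2 : x⁻¹ * r * x⁻¹⁻¹ * r⁻¹ = x⁻¹ * (x * r * x⁻¹ * r⁻¹)⁻¹ * x := by group
    rw [h2, hxf' _ (inv_mem (hxr r hr)), inv_mul_cancel_right]
    exact inv_mem (hxr r hr)

theorem stab_le [Finite G] {C F : Subgroup G} (hC : C ⊓ centralizer (o2 C : Set G) ≤ o2 C)
    (hF : IsPGroup 2 F) (hn : ∀ c ∈ C, ∀ f ∈ F, c * f * c⁻¹ ∈ F) : stab C (o2 C) F ≤ o2 C := by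
  refine le_o2 (fun x hx => hx.1) ?_ ?_
  · rintro ⟨x, hx, hxF, hxr⟩
    obtain ⟨k, hk⟩ := exists_pow_comm hF hxF hxr
    have h2 : x ^ 2 ^ k ∈ o2 C := hC ⟨pow_mem hx _, mem_centralizer_iff.2 fun r hr => (hk r hr).symm⟩
    obtain ⟨l, hl⟩ := exists_pow_eq_one (o2_isPGroup C)
    refine ⟨k + l, Subtype.ext ?_⟩
    change x ^ 2 ^ (k + l) = 1
    rw [pow_add, pow_mul]
    exact hl _ h2
  · have key : ∀ c ∈ C, ∀ x ∈ stab C (o2 C) F, c * x * c⁻¹ ∈ stab C (o2 C) F := by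
      rintro c hc x ⟨hx, hxf, hxr⟩
      refine ⟨mul_mem (mul_mem hc hx) (inv_mem hc), fun f hf => ?_, fun r hr => ?_⟩
      · have h1 := hn c⁻¹ (inv_mem hc) f hf
        rw [inv_inv] at h1
        have h2 := hxf _ h1
        calc c * x * c⁻¹ * f = c * (x * (c⁻¹ * f * c)) * c⁻¹ := by group
          _ = c * ((c⁻¹ * f * c) * x) * c⁻¹ := by rw [h2]
          _ = f * (c * x * c⁻¹) := by group
      · have hr' : c⁻¹ * r * c ∈ o2 C := by
          have := (mem_normalizer_iff.1 (inv_mem (le_normalizer_o2 C hc)) r).1 hr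
          rwa [inv_inv] at this
        have h3 := hn c hc _ (hxr _ hr')
        have h5 : c * x * c⁻¹ * r * (c * x * c⁻¹)⁻¹ * r⁻¹ =
            c * (x * (c⁻¹ * r * c) * x⁻¹ * (c⁻¹ * r * c)⁻¹) * c⁻¹ := by group
        rw [h5]
        exact h3
    intro c hc
    rw [mem_normalizer_iff]
    intro x
    refine ⟨key c hc x, fun hx => ?_⟩
    have h6 := key c⁻¹ (inv_mem hc) _ hx
    have e : c⁻¹ * (c * x * c⁻¹) * c⁻¹⁻¹ = x := by group
    rwa [e] at h6

/-! ### Definitions -/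

/-- the subgroup generated by the `C`-conjugates of the elements of `A` -/
def nc (C : Subgroup G) (A : Set G) : Subgroup G := closure {x | ∃ c ∈ C, ∃ a ∈ A, x = c * a * c⁻¹}

theorem le_nc (C : Subgroup G) {A : Set G} {a : G} (ha : a ∈ A) : a ∈ nc C A :=
  subset_closure ⟨1, one_mem _, a, ha, by group⟩

theorem conj_mem_nc {C : Subgroup G} {A : Set G} {c x : G} (hc : c ∈ C) (hx : x ∈ nc C A) :
    c * x * c⁻¹ ∈ nc C A := by
  induction hx using closure_induction with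
  | mem x hx =>
    obtain ⟨d, hd, a, ha, rfl⟩ := hx
    exact subset_closure ⟨c * d, mul_mem hc hd, a, ha, by group⟩
  | one => simp
  | mul x y _ _ hx hy =>
    have : c * (x * y) * c⁻¹ = (c * x * c⁻¹) * (c * y * c⁻¹) := by group
    rw [this]; exact mul_mem hx hy
  | inv x _ hx =>
    have : c * x⁻¹ * c⁻¹ = (c * x * c⁻¹)⁻¹ := by group
    rw [this]; exact inv_mem hx

theorem nc_le {C : Subgroup G} {A : Set G} {B : Subgroup G}
    (h : ∀ c ∈ C, ∀ a ∈ A, c * a * c⁻¹ ∈ B) : nc C A ≤ B := by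
  rw [nc, closure_le]
  rintro _ ⟨c, hc, a, ha, rfl⟩
  exact h c hc a ha

/-- `Q_i* = ⟨(V ∩ Q_i)^{C_i}⟩` -/
def Qs (z : Fin 5 → G) (i : Fin 5) : Subgroup G := nc (C z i) (V z ⊓ Q z i : Subgroup G)

/-- `L_i = ⟨V^{C_i}⟩` -/
def L (z : Fin 5 → G) (i : Fin 5) : Subgroup G := nc (C z i) (V z : Set G)

/-- `D_i = C_{Q_i}(Q_i*)` -/
def D (z : Fin 5 → G) (i : Fin 5) : Subgroup G := Q z i ⊓ centralizer (Qs z i : Set G)

/-- `R = O₂(C_G(V))` -/
def R (z : Fin 5 → G) : Subgroup G := o2 (centralizer (V z : Set G))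

variable {P : Subgroup G} {z : Fin 5 → G} [Finite G]

theorem Qs_le (i : Fin 5) : Qs z i ≤ Q z i := nc_le fun _ hc _ ha => Qn hc ha.2

theorem Qs_le_L (i : Fin 5) : Qs z i ≤ L z i := nc_le fun c hc a ha =>
  subset_closure ⟨c, hc, a, ha.1, rfl⟩

theorem E_le_Qs {i : Fin 5} {v : G} (hv : v ∈ V z) (hvQ : v ∈ Q z i) : v ∈ Qs z i :=
  le_nc _ (show v ∈ ((V z ⊓ Q z i : Subgroup G) : Set G) from ⟨hv, hvQ⟩)

theorem Qsn {i : Fin 5} {c x : G} (hc : c ∈ C z i) (hx : x ∈ Qs z i) : c * x * c⁻¹ ∈ Qs z i :=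
  conj_mem_nc hc hx

theorem Ln {i : Fin 5} {c x : G} (hc : c ∈ C z i) (hx : x ∈ L z i) : c * x * c⁻¹ ∈ L z i :=
  conj_mem_nc hc hx

theorem R_le : R z ≤ centralizer (V z : Set G) := o2_le _

theorem R_le_C (i : Fin 5) : R z ≤ C z i := R_le.trans (cV_le_C i)

theorem mapnc {p : G} {A B : Subgroup G} {X Y : Set G} (h1 : ∀ x ∈ A, p * x * p⁻¹ ∈ B)
    (h2 : ∀ x ∈ X, p * x * p⁻¹ ∈ Y) {x : G} (hx : x ∈ nc A X) : p * x * p⁻¹ ∈ nc B Y := by
  induction hx using closure_induction with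
  | mem x hx =>
    obtain ⟨c, hc, a, ha, rfl⟩ := hx
    exact subset_closure ⟨p * c * p⁻¹, h1 c hc, p * a * p⁻¹, h2 a ha, by group⟩
  | one => simp
  | mul x y _ _ hx hy =>
    have : p * (x * y) * p⁻¹ = (p * x * p⁻¹) * (p * y * p⁻¹) := by group
    rw [this]; exact mul_mem hx hy
  | inv x _ hx =>
    have : p * x⁻¹ * p⁻¹ = (p * x * p⁻¹)⁻¹ := by group
    rw [this]; exact inv_mem hx

theorem _root_.Cfsg.Agent.Omega.NOne.BetaTwo.Basic.Act.mapQs {p x : G} {σ : Perm (Fin 5)} (h : Act z p σ)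
    {i : Fin 5} (hx : x ∈ Qs z i) : p * x * p⁻¹ ∈ Qs z (σ i) :=
  mapnc (fun _ hx => h.mapC hx)
    (fun x (hx : x ∈ V z ⊓ Q z i) => show p * x * p⁻¹ ∈ V z ⊓ Q z (σ i) from ⟨h.mapV hx.1, h.mapQ hx.2⟩) hx

theorem _root_.Cfsg.Agent.Omega.NOne.BetaTwo.Basic.Act.mapL {p x : G} {σ : Perm (Fin 5)} (h : Act z p σ)
    {i : Fin 5} (hx : x ∈ L z i) : p * x * p⁻¹ ∈ L z (σ i) :=
  mapnc (fun _ hx => h.mapC hx) (fun _ hx => h.mapV hx) hx

theorem _root_.Cfsg.Agent.Omega.NOne.BetaTwo.Basic.Act.mapD {p x : G} {σ : Perm (Fin 5)} (h : Act z p σ)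
    {i : Fin 5} (hx : x ∈ D z i) : p * x * p⁻¹ ∈ D z (σ i) := by
  refine ⟨h.mapQ hx.1, mem_centralizer_iff.2 fun y hy => ?_⟩
  have h1 := h.inv.mapQs hy
  rw [show σ⁻¹ (σ i) = i from σ.symm_apply_apply i, inv_inv] at h1
  have h2 := mem_centralizer_iff.1 hx.2 _ h1
  calc y * (p * x * p⁻¹) = p * ((p⁻¹ * y * p) * x) * p⁻¹ := by group
    _ = p * (x * (p⁻¹ * y * p)) * p⁻¹ := by rw [h2]
    _ = p * x * p⁻¹ * y := by group

theorem _root_.Cfsg.Agent.Omega.NOne.BetaTwo.Basic.Act.mapR {p x : G} {σ : Perm (Fin 5)} (h : Act z p σ)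
    (hx : x ∈ R z) : p * x * p⁻¹ ∈ R z :=
  o2_conj (fun _ hx => h.mapcV hx) (fun _ hx => h.inv.mapcV hx) hx

/-! ### Step (2) -/

variable {S : Sylow 2 G}

/-- `[Q_i, Q_i*] ≤ ⟨z_i⟩` -/
theorem _root_.Cfsg.Agent.Omega.NOne.BetaTwo.Four.Dat.mod_E (h : Dat S P z) {i : Fin 5} {x e : G}
    (hx : x ∈ Q z i) (he : e ∈ V z) (heQ : e ∈ Q z i) :
    x * e * x⁻¹ = e ∨ x * e * x⁻¹ = z i * e := by
  obtain ⟨σ, hσ, hi, h1⟩ := h.perm hx
  rcases h1 with rfl | ⟨h1, h2⟩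
  · left
    have := mem_centralizer_iff.1 (mem_cV.2 hσ) e he
    rw [← this]; group
  rcases h.mem_E he heQ with rfl | rfl | ⟨j, k, hij, hik, hjk, rfl⟩
  · left; group
  · left; exact mem_C.1 (QC i hx)
  obtain ⟨l, m, hnd⟩ := ext3 i j k hij hik hjk
  obtain ⟨n1, n2, n3, n4, n5, n6, n7, n8, n9, n10⟩ := nd hnd
  have h3 : x * (z j * z k) * x⁻¹ = z (σ j) * z (σ k) := by
    rw [← hσ, ← hσ]; group
  have hσσ : ∀ a, σ (σ a) = a := fun a => by rw [← Perm.mul_apply, h1]; rfl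
  rw [h3]
  rcases five i j k l m (σ j) hnd with h8 | h8 | h8 | h8 | h8
  · exact absurd (σ.injective (h8.trans hi.symm)) hij.symm
  · exact absurd h8 (h2 j hij.symm)
  · left
    have : σ k = j := by rw [← h8, hσσ]
    rw [h8, this, h.comm]
  · right
    have h9 : σ k = m := by
      have hl : σ l = j := by rw [← h8, hσσ]
      rcases five i j k l m (σ k) hnd with h9 | h9 | h9 | h9 | h9
      · exact absurd (σ.injective (h9.trans hi.symm)) hik.symm
      · exact absurd (σ.injective (h9.trans hl.symm)) n8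
      · exact absurd h9 (h2 k hik.symm)
      · exact absurd (σ.injective (h9.trans h8.symm)) n5.symm
      · exact h9
    rw [h8, h9, ← mul_assoc]
    exact (h.three hnd).symm
  · right
    have h9 : σ k = l := by
      have hl : σ m = j := by rw [← h8, hσσ]
      rcases five i j k l m (σ k) hnd with h9 | h9 | h9 | h9 | h9
      · exact absurd (σ.injective (h9.trans hi.symm)) hik.symm
      · exact absurd (σ.injective (h9.trans hl.symm)) n9
      · exact absurd h9 (h2 k hik.symm)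
      · exact h9
      · exact absurd (σ.injective (h9.trans h8.symm)) n5.symm
    rw [h8, h9, ← mul_assoc, h.comm m l]
    exact (h.three hnd).symm

theorem _root_.Cfsg.Agent.Omega.NOne.BetaTwo.Four.Dat.zc (h : Dat S P z) {i : Fin 5} {x : G} (hx : x ∈ C z i) :
    x * z i = z i * x := by
  have := mem_C.1 hx
  calc x * z i = (x * z i * x⁻¹) * x := by group
    _ = z i * x := by rw [this]

theorem _root_.Cfsg.Agent.Omega.NOne.BetaTwo.Four.Dat.mod (h : Dat S P z) {i : Fin 5} {x y : G}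
    (hx : x ∈ Q z i) (hy : y ∈ Qs z i) : x * y * x⁻¹ = y ∨ x * y * x⁻¹ = z i * y := by
  induction hy using closure_induction generalizing x with
  | mem y hy =>
    obtain ⟨c, hc, e, he, rfl⟩ := hy
    have h1 : c⁻¹ * x * c ∈ Q z i := by
      have := Qn (inv_mem hc) hx
      rwa [inv_inv] at this
    have h2 : x * (c * e * c⁻¹) * x⁻¹ = c * ((c⁻¹ * x * c) * e * (c⁻¹ * x * c)⁻¹) * c⁻¹ := by group
    rcases h.mod_E h1 he.1 he.2 with h3 | h3
    · left; rw [h2, h3]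
    · right
      rw [h2, h3]
      have := h.zc hc
      calc c * (z i * e) * c⁻¹ = (c * z i) * e * c⁻¹ := by group
        _ = z i * (c * e * c⁻¹) := by rw [this]; group
  | one => left; group
  | mul y w hy hw ihy ihw =>
    have e : x * (y * w) * x⁻¹ = (x * y * x⁻¹) * (x * w * x⁻¹) := by group
    have hyz : y * z i = z i * y := h.zc (QC i (Qs_le i hy))
    rw [e]
    rcases ihy hx with h1 | h1 <;> rcases ihw hx with h2 | h2
    · left; rw [h1, h2]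
    · right; rw [h1, h2, ← mul_assoc, hyz, mul_assoc]
    · right; rw [h1, h2, mul_assoc]
    · left; rw [h1, h2, mul_assoc, ← mul_assoc y, hyz, mul_assoc, ← mul_assoc (z i), h.sq, one_mul]
  | inv y hy ih =>
    have e : x * y⁻¹ * x⁻¹ = (x * y * x⁻¹)⁻¹ := by group
    have hyz : y * z i = z i * y := h.zc (QC i (Qs_le i hy))
    rw [e]
    rcases ih hx with h1 | h1
    · left; rw [h1]
    · right
      rw [h1, ← hyz, mul_inv_rev, h.zinv]

theorem _root_.Cfsg.Agent.Omega.NOne.BetaTwo.Four.Dat.sqQs (h : Dat S P z) {i : Fin 5} {y : G}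
    (hy : y ∈ Qs z i) : y * y = 1 ∨ y * y = z i := by
  induction hy using closure_induction with
  | mem y hy =>
    obtain ⟨c, hc, e, he, rfl⟩ := hy
    left
    have : c * e * c⁻¹ * (c * e * c⁻¹) = c * (e * e) * c⁻¹ := by group
    rw [this, h.sq_V he.1]; group
  | one => left; group
  | mul y w hy hw ihy ihw =>
    have e : y * w * (y * w) = y * (w * y * w⁻¹) * (w * w) := by group
    have hyz : y * z i = z i * y := h.zc (QC i (Qs_le i hy))
    have e2 : y * (z i * y) = (y * y) * z i := by rw [← hyz, mul_assoc]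
    rw [e]
    rcases h.mod (Qs_le i hw) hy with h1 | h1 <;> rcases ihy with h2 | h2 <;> rcases ihw with h3 | h3
    · left; rw [h1, h2, h3, one_mul]
    · right; rw [h1, h2, h3, one_mul]
    · right; rw [h1, h2, h3, mul_one]
    · left; rw [h1, h2, h3, h.sq]
    · right; rw [h1, e2, h2, h3, one_mul, mul_one]
    · left; rw [h1, e2, h2, h3, one_mul, h.sq]
    · left; rw [h1, e2, h2, h3, h.sq, one_mul]
    · right; rw [h1, e2, h2, h3, h.sq, one_mul]
  | inv y hy ih =>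
    have e : y⁻¹ * y⁻¹ = (y * y)⁻¹ := by group
    rw [e]
    rcases ih with h1 | h1
    · left; rw [h1, inv_one]
    · right; rw [h1, h.zinv]

/-- elements of `P` normalise `V` -/
theorem _root_.Cfsg.Agent.Omega.NOne.BetaTwo.Four.Dat.Vn (h : Dat S P z) {p v : G} (hp : p ∈ P)
    (hv : v ∈ V z) : p * v * p⁻¹ ∈ V z := by
  obtain ⟨σ, hσ⟩ := h.exAct hp
  exact hσ.mapV hv

theorem _root_.Cfsg.Agent.Omega.NOne.BetaTwo.Four.Dat.Qs_not (h : Dat S P z) (i : Fin 5) :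
    ¬ Qs z i ≤ centralizer (V z : Set G) := by
  intro h1
  apply h.notVi i
  refine le_trans ?_ (stab_le (h.char2 i) (F := Qs z i) ?_ ?_)
  · intro v hv
    refine ⟨h.V_le_C i hv, fun f hf => mem_centralizer_iff.1 (h1 hf) v hv, fun q hq => ?_⟩
    have h2 : v * q * v⁻¹ * q⁻¹ = v * (q * v⁻¹ * q⁻¹) := by group
    refine E_le_Qs ?_ (mul_mem (Qn (h.V_le_C i hv) hq) (inv_mem hq))
    rw [h2]
    exact mul_mem hv (h.Vn (h.QP i hq) (inv_mem hv))
  · exact (Q_pgroup i).to_le (Qs_le i)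
  · exact fun c hc f hf => Qsn hc hf

theorem _root_.Cfsg.Agent.Omega.NOne.BetaTwo.Four.Dat.exQs (h : Dat S P z) {i j k l m : Fin 5}
    (hnd : [i, j, k, l, m].Nodup) :
    ∃ q ∈ Qs z i, ∃ σ, Act z q σ ∧ σ i = i ∧ σ j = k ∧ σ k = j ∧ σ l = m ∧ σ m = l :=
  h.exN (Qs_le i) (fun _ _ hc _ hx => Qsn hc hx) (h.Qs_not i) hnd

/-! ### `D_i` -/

/-- an element of `Q_i` centralising `V ∩ Q_i` centralises `V` -/
theorem _root_.Cfsg.Agent.Omega.NOne.BetaTwo.Four.Dat.cV_of_E (h : Dat S P z) {i : Fin 5} {q : G}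
    (hq : q ∈ Q z i) (h0 : ∀ v ∈ V z, v ∈ Q z i → v * q = q * v) : q ∈ centralizer (V z : Set G) := by
  obtain ⟨σ, hσ, hi, h1⟩ := h.perm hq
  rcases h1 with rfl | ⟨h1, h2⟩
  · exact mem_cV.2 hσ
  exfalso
  obtain ⟨j, hj⟩ := ne1 i
  have n2 : σ j ≠ i := fun h4 => hj (σ.injective (h4.trans hi.symm)).symm
  have n3 : σ j ≠ j := h2 j hj.symm
  obtain ⟨l, m, hnd⟩ := ext3 i j (σ j) hj n2.symm n3.symm
  obtain ⟨-, -, n3, n4, n5, n6, n7, n8, n9, n10⟩ := nd hnd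
  have hσσ : ∀ a, σ (σ a) = a := fun a => by rw [← Perm.mul_apply, h1]; rfl
  have hl : σ l = m := by
    rcases five i j (σ j) l m (σ l) hnd with h9 | h9 | h9 | h9 | h9
    · exact absurd (σ.injective (h9.trans hi.symm)) n3.symm
    · have : σ j = l := by rw [← h9, hσσ]
      exact absurd this n8
    · exact absurd (σ.injective h9) n6.symm
    · exact absurd h9 (h2 l n3.symm)
    · exact h9
  have h3 : q * (z j * z l) * q⁻¹ = z (σ j) * z m := by
    rw [← hσ j, ← hl, ← hσ l]; group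
  have h4 := h0 (z j * z l) (mul_mem (z_mem _) (z_mem _)) (h.zz_mem hj n3 n6)
  have h5 : q * (z j * z l) * q⁻¹ = z j * z l := by rw [← h4]; group
  refine h.mul_ne_mul (i := j) (j := l) (k := σ j) (l := m) (m := i) ?_ (h5.symm.trans h3)
  simp only [List.nodup_cons, List.mem_cons, List.not_mem_nil, not_or, or_false]
  exact ⟨⟨n6, n5, n7, hj.symm⟩, ⟨n8.symm, n10, n3.symm⟩, ⟨n9, n2⟩, n4.symm, by simp⟩

theorem _root_.Cfsg.Agent.Omega.NOne.BetaTwo.Four.Dat.D_cV (h : Dat S P z) {i : Fin 5} {d : G}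
    (hd : d ∈ D z i) : d ∈ centralizer (V z : Set G) :=
  h.cV_of_E hd.1 fun v hv hvQ => mem_centralizer_iff.1 hd.2 v (E_le_Qs hv hvQ)

theorem Dn {i : Fin 5} {c x : G} (hc : c ∈ C z i) (hx : x ∈ D z i) : c * x * c⁻¹ ∈ D z i := by
  refine ⟨Qn hc hx.1, mem_centralizer_iff.2 fun y hy => ?_⟩
  have h1 := Qsn (inv_mem hc) hy
  rw [inv_inv] at h1
  have h2 := mem_centralizer_iff.1 hx.2 _ h1
  calc y * (c * x * c⁻¹) = c * ((c⁻¹ * y * c) * x) * c⁻¹ := by group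
    _ = c * (x * (c⁻¹ * y * c)) * c⁻¹ := by rw [h2]
    _ = c * x * c⁻¹ * y := by group

/-- `[L_i, D_i] = 1` -/
theorem _root_.Cfsg.Agent.Omega.NOne.BetaTwo.Four.Dat.D_L (h : Dat S P z) (i : Fin 5) :
    L z i ≤ centralizer (D z i : Set G) := by
  refine nc_le fun c hc v hv => mem_centralizer_iff.2 fun d hd => ?_
  have h1 := Dn (inv_mem hc) hd
  rw [inv_inv] at h1
  have h2 := mem_centralizer_iff.1 (h.D_cV h1) v hv
  calc d * (c * v * c⁻¹) = c * ((c⁻¹ * d * c) * v) * c⁻¹ := by group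
    _ = c * (v * (c⁻¹ * d * c)) * c⁻¹ := by rw [← h2]
    _ = c * v * c⁻¹ * d := by group

theorem _root_.Cfsg.Agent.Omega.NOne.BetaTwo.Four.Dat.D_R (h : Dat S P z) (i : Fin 5) : D z i ≤ R z := by
  refine le_o2 (fun d hd => h.D_cV hd) ((Q_pgroup i).to_le inf_le_left) ?_
  intro c hc
  rw [mem_normalizer_iff]
  have hcC := cV_le_C i hc
  intro x
  refine ⟨fun hx => Dn hcC hx, fun hx => ?_⟩
  have := Dn (inv_mem hcC) hx
  have e : c⁻¹ * (c * x * c⁻¹) * c⁻¹⁻¹ = x := by group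
  rwa [e] at this

theorem _root_.Cfsg.Agent.Omega.NOne.BetaTwo.Four.Dat.z_D (h : Dat S P z) (i : Fin 5) : z i ∈ D z i := by
  refine ⟨h.z_self i, mem_centralizer_iff.2 fun y hy => ?_⟩
  exact h.zc (QC i (Qs_le i hy))

theorem _root_.Cfsg.Agent.Omega.NOne.BetaTwo.Four.Dat.D_V (h : Dat S P z) {i : Fin 5} {d : G}
    (hd : d ∈ D z i) (hdV : d ∈ V z) : d = 1 ∨ d = z i := by
  rcases h.mem_E hdV hd.1 with rfl | rfl | ⟨j, k, hij, hik, hjk, rfl⟩
  · exact Or.inl rfl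
  · exact Or.inr rfl
  exfalso
  obtain ⟨l, m, hnd⟩ := ext3 i j k hij hik hjk
  obtain ⟨n1, n2, n3, n4, n5, n6, n7, n8, n9, n10⟩ := nd hnd
  have hnd' : [i, j, l, k, m].Nodup := by
    simp only [List.nodup_cons, List.mem_cons, List.not_mem_nil, not_or, or_false]
    exact ⟨⟨n1, n3, n2, n4⟩, ⟨n6, n5, n7⟩, ⟨n8.symm, n10⟩, n9, by simp⟩
  obtain ⟨q, hq, σ, hσ, e1, e2, e3, e4, e5⟩ := h.exQs hnd'
  have h1 := mem_centralizer_iff.1 hd.2 q hq
  have h2 : q * (z j * z k) * q⁻¹ = z l * z m := by rw [← e2, ← e4, ← hσ, ← hσ]; group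
  have h3 : q * (z j * z k) * q⁻¹ = z j * z k := by rw [h1]; group
  refine h.mul_ne_mul (i := j) (j := k) (k := l) (l := m) (m := i) ?_ (h3.symm.trans h2)
  simp only [List.nodup_cons, List.mem_cons, List.not_mem_nil, not_or, or_false]
  exact ⟨⟨n5, n6, n7, n1.symm⟩, ⟨n8, n9, n2.symm⟩, ⟨n10, n3.symm⟩, n4.symm, by simp⟩

/-! ### Step (3) -/

/-- the characteristic 2 hypothesis for the normalisers of `2`-groups normalised by `S` -/
def Char2 (S : Sylow 2 G) : Prop := ∀ N : Subgroup G, IsPGroup 2 N → N ≠ ⊥ →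
  (S : Subgroup G) ≤ normalizer (N : Set G) →
  normalizer (N : Set G) ⊓ centralizer (o2 (normalizer (N : Set G)) : Set G) ≤ o2 (normalizer (N : Set G))

theorem _root_.Cfsg.Agent.Omega.NOne.BetaTwo.Four.Dat.D_le_all (h : Dat S P z) {i j : Fin 5} (hij : i ≠ j)
    {x : G} (hx : x ∈ D z i) (hxj : x ∈ D z j) (k : Fin 5) : x ∈ D z k := by
  by_cases hik : i = k
  · subst hik; exact hx
  by_cases hjk : j = k
  · subst hjk; exact hxj
  obtain ⟨l, m, hnd⟩ := ext3 i j k hij hik hjk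
  obtain ⟨q, hq, σ, hσ, e1, e2, e3, e4, e5⟩ := h.exQs hnd
  have h1 := mem_centralizer_iff.1 hx.2 q hq
  have h2 := hσ.mapD hxj
  rw [e2] at h2
  have h3 : q * x * q⁻¹ = x := by rw [h1]; group
  rwa [h3] at h2

theorem _root_.Cfsg.Agent.Omega.NOne.BetaTwo.Four.Dat.D_inf (h : Dat S P z) (hc : Char2 S) {i j : Fin 5}
    (hij : i ≠ j) {x : G} (hx : x ∈ D z i) (hxj : x ∈ D z j) : x = 1 := by
  by_contra hx1
  set N : Subgroup G := ⨅ k, D z k with hN
  have hxN : x ∈ N := by rw [hN, mem_iInf]; exact h.D_le_all hij hx hxj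
  have hN0 : N ≤ D z 0 := iInf_le _ 0
  have hNp : IsPGroup 2 N := (Q_pgroup 0).to_le (hN0.trans inf_le_left)
  have hN1 : N ≠ ⊥ := fun h1 => hx1 (by rw [h1] at hxN; exact mem_bot.1 hxN)
  have key : ∀ p ∈ P, ∀ y ∈ N, p * y * p⁻¹ ∈ N := by
    intro p hp y hy
    obtain ⟨σ, hσ⟩ := h.exAct hp
    rw [hN, mem_iInf] at hy ⊢
    intro k
    have := hσ.mapD (hy (σ⁻¹ k))
    rwa [show σ (σ⁻¹ k) = k from σ.apply_symm_apply k] at this
  have hPN : P ≤ normalizer (N : Set G) := by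
    intro p hp
    rw [mem_normalizer_iff]
    intro y
    refine ⟨key p hp y, fun hy => ?_⟩
    have := key p⁻¹ (inv_mem hp) _ hy
    have e : p⁻¹ * (p * y * p⁻¹) * p⁻¹⁻¹ = y := by group
    rwa [e] at this
  have hLN : L z 0 ≤ normalizer (N : Set G) := by
    have : L z 0 ≤ centralizer (N : Set G) := (h.D_L 0).trans (centralizer_le hN0)
    exact this.trans (centralizer_le_normalizer _)
  have hSN : (S : Subgroup G) ≤ normalizer (N : Set G) := h.SP.trans hPN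
  have hH := hc N hNp hN1 hSN
  set H := normalizer (N : Set G) with hHdef
  have hoS : o2 H ≤ (S : Subgroup G) := o2_le_of_sylow S.isPGroup' (not_dvd_relIndex S hSN)
  have hz0 : z 0 ∈ o2 H := by
    apply hH
    refine ⟨hPN (h.QP 0 (h.z_self 0)), mem_centralizer_iff.2 fun y hy => ?_⟩
    exact h.zc (h.SC (hoS hy))
  have hVo : V z ≤ o2 H := by
    rw [V, closure_le]
    rintro _ ⟨k, rfl⟩
    obtain ⟨p, hp, σ, hσ, h0⟩ := h.to k
    have := (mem_normalizer_iff.1 (le_normalizer_o2 H (hPN hp)) (z 0)).1 hz0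
    rwa [hσ, h0] at this
  apply h.notV
  have hVL : V z ≤ L z 0 := fun v hv => le_nc _ hv
  have h1 : V z ≤ o2 (L z 0) := by
    refine (le_inf hVo hVL).trans (le_o2 inf_le_right ((o2_isPGroup H).to_le inf_le_left) ?_)
    intro l hl
    have hlH := hLN hl
    rw [mem_normalizer_iff]
    intro y
    constructor
    · rintro ⟨hy1, hy2⟩
      exact ⟨(mem_normalizer_iff.1 (le_normalizer_o2 H hlH) y).1 hy1,
        (L z 0).mul_mem ((L z 0).mul_mem hl hy2) ((L z 0).inv_mem hl)⟩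
    · rintro ⟨hy1, hy2⟩
      refine ⟨(mem_normalizer_iff.1 (le_normalizer_o2 H hlH) y).2 hy1, ?_⟩
      have := (L z 0).mul_mem ((L z 0).mul_mem ((L z 0).inv_mem hl) hy2) hl
      have e : l⁻¹ * (l * y * l⁻¹) * l = y := by group
      rwa [e] at this
  have hLC : L z 0 ≤ C z 0 := nc_le fun c hc v hv => mul_mem (mul_mem hc (h.V_le_C 0 hv)) (inv_mem hc)
  refine h1.trans (le_o2 ((o2_le _).trans hLC) (o2_isPGroup _) ?_)
  intro c hc
  apply Cfsg.Agent.ZN.normalizer_le_normalizer_o2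
  rw [mem_normalizer_iff]
  intro y
  refine ⟨fun hy => Ln hc hy, fun hy => ?_⟩
  have := Ln (inv_mem hc) hy
  have e : c⁻¹ * (c * y * c⁻¹) * c⁻¹⁻¹ = y := by group
  rwa [e] at this

end Cfsg.Agent.Omega.NOne.BetaTwo.DOne
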