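import Cfsg.Agent.Omega.NOne.BetaTwo.DOne
import Cfsg.Agent.Lib.NormalAbelian

/-!
# NO-1, type (beta), `q = 2`: steps (4) - (6): `D_i = ⟨z_i⟩`
-/

set_option autoImplicit false
set_option Elab.async false

namespace Cfsg.Agent.Omega.NOne.BetaTwo.DTwo

open Subgroup Equiv Cfsg Cfsg.Agent.MinSimple.VModule Cfsg.Agent.MinSimple.Basic
open Cfsg.Agent.Omega.NOne.BetaTwo.Basic Cfsg.Agent.Omega.NOne.BetaTwo.Four
open Cfsg.Agent.Omega.NOne.BetaTwo.DOne
open Cfsg.Agent.ZN (o2 o2_map)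

universe u

theorem exists_central {G : Type u} [Group G] [Finite G] {T N : Subgroup G} (hT : IsPGroup 2 T) (hNT : N ≤ T)
    (hn : ∀ t ∈ T, ∀ x ∈ N, t * x * t⁻¹ ∈ N) (hN : N ≠ ⊥) : ∃ x ∈ N, x ≠ 1 ∧ ∀ t ∈ T, t * x = x * t := by
  haveI : Fact (Nat.Prime 2) := ⟨Nat.prime_two⟩
  haveI : Group.IsNilpotent T := hT.isNilpotent
  haveI : (N.subgroupOf T).Normal := ⟨fun x hx t => by
    rw [mem_subgroupOf] at hx ⊢
    exact hn t t.2 _ hx⟩
  have h1 : N.subgroupOf T ≠ ⊥ := by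
    intro h1
    apply hN
    rw [subgroupOf_eq_bot, disjoint_iff] at h1
    rwa [inf_eq_left.2 hNT] at h1
  have h2 := Cfsg.Agent.Lib.NormalAbelian.normal_inf_center_ne_bot (N.subgroupOf T) h1
  obtain ⟨⟨x, hx⟩, hx1⟩ := ne_bot_iff_exists_ne_one.1 h2
  refine ⟨x, hx.1, fun h3 => hx1 (Subtype.ext (Subtype.ext h3)), fun t ht => ?_⟩
  exact congrArg Subtype.val (mem_center_iff.1 hx.2 ⟨t, ht⟩)

theorem nd_iff {i j k l m : Fin 5} : [i, j, k, l, m].Nodup ↔
    i ≠ j ∧ i ≠ k ∧ i ≠ l ∧ i ≠ m ∧ j ≠ k ∧ j ≠ l ∧ j ≠ m ∧ k ≠ l ∧ k ≠ m ∧ l ≠ m := by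
  simp only [List.nodup_cons, List.mem_cons, List.not_mem_nil, not_or, or_false]
  tauto

variable {G : Type u} [Group G] [Finite G] {P : Subgroup G} {z : Fin 5 → G} {S : Sylow 2 G}

open Cfsg.Agent.Omega.NOne.BetaTwo.Four (Dat)

/-! ### Step (4) -/

theorem D_comm (h : Dat S P z) (hc : Char2 S) {i j : Fin 5} (hij : i ≠ j) {a b : G} (ha : a ∈ D z i)
    (hb : b ∈ D z j) : a * b = b * a := by
  have haR := R_le_C j (h.D_R i ha)
  have hbR := R_le_C i (h.D_R j hb)
  have h1 : a * b * a⁻¹ * b⁻¹ ∈ D z j := mul_mem (Dn haR hb) (inv_mem hb)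
  have h2 : a * b * a⁻¹ * b⁻¹ ∈ D z i := by
    have : a * b * a⁻¹ * b⁻¹ = a * (b * a⁻¹ * b⁻¹) := by group
    rw [this]
    exact mul_mem ha (Dn hbR (inv_mem ha))
  have h3 := h.D_inf hc hij h2 h1
  calc a * b = (a * b * a⁻¹ * b⁻¹) * (b * a) := by group
    _ = b * a := by rw [h3, one_mul]

theorem D_z (h : Dat S P z) {i : Fin 5} {a : G} (ha : a ∈ D z i) (j : Fin 5) : a * z j = z j * a :=
  (mem_centralizer_iff.1 (h.D_cV ha) (z j) (z_mem j)).symm

theorem mul_ne_z (h : Dat S P z) (hc : Char2 S) {i j k : Fin 5} (hij : i ≠ j) (hik : i ≠ k) (hjk : j ≠ k)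
    {a b : G} (ha : a ∈ D z j) (hb : b ∈ D z k) : a * b ≠ z i := by
  intro hab
  obtain ⟨l, m, hnd⟩ := ext3 j i k hij.symm hjk hik
  obtain ⟨w, hw, σ, hσ, e1, e2, e3, e4, e5⟩ := h.exQs hnd
  have hcomm := D_comm h hc hjk ha hb
  have h1 : a * a * (b * b) = 1 := by
    calc a * a * (b * b) = a * (a * b) * b := by group
      _ = a * (b * a) * b := by rw [hcomm]
      _ = (a * b) * (a * b) := by group
      _ = 1 := by rw [hab, h.sq]
  have ha2 : a * a = 1 := by
    apply h.D_inf hc hjk (mul_mem ha ha)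
    have : a * a = (b * b)⁻¹ := eq_inv_of_mul_eq_one_left h1
    rw [this]
    exact inv_mem (mul_mem hb hb)
  have hb2 : b * b = 1 := by rwa [ha2, one_mul] at h1
  have hwa : w * a = a * w := mem_centralizer_iff.1 ha.2 w hw
  set b' := w * b * w⁻¹ with hb'
  have hb'D : b' ∈ D z i := by
    have := hσ.mapD hb
    rwa [e3] at this
  have h2 : z k = a * b' := by
    rw [← e2, ← hσ, ← hab]
    calc w * (a * b) * w⁻¹ = (w * a) * b * w⁻¹ := by group
      _ = a * b' := by rw [hwa, hb']; group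
  have h3 : b * z k = z i * b' := by
    calc b * z k = b * (a * b') := by rw [h2]
      _ = (b * a) * b' := by group
      _ = z i * b' := by rw [← hcomm, hab]
  have h4 : b * z k = 1 := by
    apply h.D_inf hc hik.symm (mul_mem hb (h.z_D k))
    rw [h3]
    exact mul_mem (h.z_D i) hb'D
  have h5 : b = z k := by
    rw [← h.zinv k]
    exact eq_inv_of_mul_eq_one_left h4
  rw [h5] at hab
  have h6 : a = z i * z k := by rw [← hab, mul_assoc, h.sq, mul_one]
  rcases h.D_V ha (by rw [h6]; exact mul_mem (z_mem _) (z_mem _)) with h7 | h7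
  · exact h.mul_ne_one hik (h6 ▸ h7)
  · exact h.mul_ne hik j (h6 ▸ h7)

/-! ### Step (5) -/

theorem D_sq (h : Dat S P z) (hc : Char2 S) {j : Fin 5} {d : G} (hd : d ∈ D z j) : d * d = 1 := by
  obtain ⟨i, hij⟩ := ne1 j
  obtain ⟨k, l, m, hnd⟩ := ext2 i j hij.symm
  obtain ⟨n1, n2, n3, n4, n5, n6, n7, n8, n9, n10⟩ := nd hnd
  obtain ⟨x, hx, σ, hσ, e1, e2, e3, e4, e5⟩ := h.exQs hnd
  have hdC := R_le_C i (h.D_R j hd)
  set d' := x * d * x⁻¹ with hd'
  have hd'D : d' ∈ D z k := by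
    have := hσ.mapD hd
    rwa [e2] at this
  have h1 : d⁻¹ * d' ∈ Qs z i := by
    have h2 : d⁻¹ * d' = (d⁻¹ * x * d⁻¹⁻¹) * x⁻¹ := by rw [hd']; group
    rw [h2]
    exact mul_mem (Qsn (inv_mem hdC) hx) (inv_mem hx)
  have hcomm := D_comm h hc n5 (inv_mem hd) hd'D
  have h3 : d⁻¹ * d' * (d⁻¹ * d') = (d⁻¹ * d⁻¹) * (d' * d') := by
    calc d⁻¹ * d' * (d⁻¹ * d') = d⁻¹ * (d' * d⁻¹) * d' := by group
      _ = d⁻¹ * (d⁻¹ * d') * d' := by rw [hcomm]
      _ = _ := by group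
  rcases h.sqQs h1 with h2 | h2
  · rw [h3] at h2
    have h4 : d⁻¹ * d⁻¹ = 1 := by
      apply h.D_inf hc n5 (mul_mem (inv_mem hd) (inv_mem hd))
      rw [eq_inv_of_mul_eq_one_left h2]
      exact inv_mem (mul_mem hd'D hd'D)
    have : d * d = (d⁻¹ * d⁻¹)⁻¹ := by rw [mul_inv_rev, inv_inv]
    rw [this, h4, inv_one]
  · rw [h3] at h2
    exact absurd h2 (mul_ne_z h hc n1 n2 n5 (mul_mem (inv_mem hd) (inv_mem hd)) (mul_mem hd'D hd'D))

theorem D_inv (h : Dat S P z) (hc : Char2 S) {j : Fin 5} {d : G} (hd : d ∈ D z j) : d⁻¹ = d :=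
  inv_eq_of_mul_eq_one_right (D_sq h hc hd)

theorem D_Qs (h : Dat S P z) (hc : Char2 S) {i j : Fin 5} (hij : i ≠ j) {d : G} (hd : d ∈ D z j)
    (hdQ : d ∈ Qs z i) : d = 1 := by
  obtain ⟨k, l, m, hnd⟩ := ext2 i j hij
  obtain ⟨n1, n2, n3, n4, n5, n6, n7, n8, n9, n10⟩ := nd hnd
  obtain ⟨x, hx, σ, hσ, e1, e2, e3, e4, e5⟩ := h.exQs hnd
  have hd'D : x * d * x⁻¹ ∈ D z k := by
    have := hσ.mapD hd
    rwa [e2] at this
  rcases h.mod (Qs_le i hx) hdQ with h1 | h1
  · rw [h1] at hd'D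
    exact h.D_inf hc n5 hd hd'D
  · exfalso
    refine mul_ne_z h hc n1 n2 n5 (inv_mem hd) hd'D ?_
    rw [h1, ← D_z h hd i, inv_mul_cancel_left]

theorem Qs_comm (h : Dat S P z) (hc : Char2 S) {i j : Fin 5} (hij : i ≠ j) {y d : G} (hy : y ∈ Qs z i)
    (hyV : y ∈ centralizer (V z : Set G)) (hd : d ∈ D z j) : y * d * y⁻¹ = d := by
  have h1 : y * d * y⁻¹ * d⁻¹ ∈ D z j := mul_mem (Dn (cV_le_C j hyV) hd) (inv_mem hd)
  have h2 : y * d * y⁻¹ * d⁻¹ ∈ Qs z i := by
    have : y * d * y⁻¹ * d⁻¹ = y * (d * y⁻¹ * d⁻¹) := by group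
    rw [this]
    exact mul_mem hy (Qsn (R_le_C i (h.D_R j hd)) (inv_mem hy))
  have h3 := D_Qs h hc hij h1 h2
  exact mul_inv_eq_one.1 h3

theorem Qs_val (h : Dat S P z) (hc : Char2 S) {i j : Fin 5} (hij : i ≠ j) {x y d : G} (hx : x ∈ Qs z i)
    (hy : y ∈ Qs z i) (hxy : x * z j * x⁻¹ = y * z j * y⁻¹) (hd : d ∈ D z j) :
    x * d * x⁻¹ = y * d * y⁻¹ := by
  have h1 : y⁻¹ * x ∈ Qs z i := mul_mem (inv_mem hy) hx
  have h2 : y⁻¹ * x ∈ centralizer (V z : Set G) := by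
    apply h.cV_of (Qs_le i h1) hij.symm
    calc y⁻¹ * x * z j * (y⁻¹ * x)⁻¹ = y⁻¹ * (x * z j * x⁻¹) * y := by group
      _ = z j := by rw [hxy]; group
  have h3 := Qs_comm h hc hij h1 h2 hd
  calc x * d * x⁻¹ = y * ((y⁻¹ * x) * d * (y⁻¹ * x)⁻¹) * y⁻¹ := by group
    _ = y * d * y⁻¹ := by rw [h3]

/-! ### Step (6) -/

/-- `t a` is the image of `d ∈ D_j` in `D_a` under the elements of `Q_i*` moving `j` to `a`. -/
def Tr (z : Fin 5 → G) (i j : Fin 5) (d : G) (t : Fin 5 → G) : Prop :=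
  ∀ a, ∀ x ∈ Qs z i, x * z j * x⁻¹ = z a → x * d * x⁻¹ = t a

theorem exists_Tr (h : Dat S P z) (hc : Char2 S) {i j : Fin 5} (hij : i ≠ j) {d : G} (hd : d ∈ D z j) :
    ∃ t, Tr z i j d t := by
  classical
  refine ⟨fun a => if ha : ∃ x ∈ Qs z i, x * z j * x⁻¹ = z a then ha.choose * d * ha.choose⁻¹ else 1, ?_⟩
  intro a x hx hxa
  have ha : ∃ x ∈ Qs z i, x * z j * x⁻¹ = z a := ⟨x, hx, hxa⟩
  simp only [dif_pos ha]
  exact Qs_val h hc hij hx ha.choose_spec.1 (hxa.trans ha.choose_spec.2.symm) hd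

theorem ex_to (h : Dat S P z) {i j a : Fin 5} (hij : i ≠ j) (hia : i ≠ a) :
    ∃ x ∈ Qs z i, ∃ σ, Act z x σ ∧ σ i = i ∧ σ j = a := by
  by_cases hja : j = a
  · subst hja
    exact ⟨1, one_mem _, 1, Act.one, rfl, rfl⟩
  · obtain ⟨l, m, hnd⟩ := ext3 i j a hij hia hja
    obtain ⟨x, hx, σ, hσ, e1, e2, -⟩ := h.exQs hnd
    exact ⟨x, hx, σ, hσ, e1, e2⟩

theorem Tr_mem (h : Dat S P z) {i j : Fin 5} (hij : i ≠ j) {d : G} (hd : d ∈ D z j) {t : Fin 5 → G}
    (ht : Tr z i j d t) {a : Fin 5} (hia : i ≠ a) : t a ∈ D z a := by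
  obtain ⟨x, hx, σ, hσ, -, e2⟩ := ex_to h hij hia
  rw [← ht a x hx (by rw [hσ, e2]), ← e2]
  exact hσ.mapD hd

theorem Tr_self {i j : Fin 5} {d : G} {t : Fin 5 → G} (ht : Tr z i j d t) : t j = d := by
  have := ht j 1 (one_mem _) (by group)
  rw [← this]; group

theorem Tr_unique (h : Dat S P z) {i j : Fin 5} (hij : i ≠ j) {d : G} {t t' : Fin 5 → G}
    (ht : Tr z i j d t) (ht' : Tr z i j d t') {a : Fin 5} (hia : i ≠ a) : t a = t' a := by
  obtain ⟨x, hx, σ, hσ, -, e2⟩ := ex_to h hij hia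
  rw [← ht a x hx (by rw [hσ, e2]), ← ht' a x hx (by rw [hσ, e2])]

theorem Tr_z {i j : Fin 5} : Tr z i j (z j) z := fun _ _ _ hx => hx

theorem Tr_mul {i j : Fin 5} {d d' : G} {t t' : Fin 5 → G} (ht : Tr z i j d t) (ht' : Tr z i j d' t') :
    Tr z i j (d * d') (fun a => t a * t' a) := by
  intro a x hx hxa
  have : x * (d * d') * x⁻¹ = (x * d * x⁻¹) * (x * d' * x⁻¹) := by group
  rw [this, ht a x hx hxa, ht' a x hx hxa]

/-- the product of the four images is `1` or `z_i` -/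
theorem Tr_prod (h : Dat S P z) (hc : Char2 S) {i j k l m : Fin 5} (hnd : [i, j, k, l, m].Nodup) {d : G}
    (hd : d ∈ D z j) {t : Fin 5 → G} (ht : Tr z i j d t) :
    t j * t k * t l * t m = 1 ∨ t j * t k * t l * t m = z i := by
  obtain ⟨n1, n2, n3, n4, n5, n6, n7, n8, n9, n10⟩ := nd hnd
  obtain ⟨x, hx, σ, hσ, e1, e2, e3, e4, e5⟩ := h.exQs hnd
  obtain ⟨y, hy, τ, hτ, f1, f2, f3, f4, f5⟩ := h.exQs (i := i) (j := j) (k := l) (l := k) (m := m)
    (nd_iff.2 ⟨n1, n3, n2, n4, n6, n5, n7, n8.symm, n10, n9⟩)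
  have tk := ht k x hx (by rw [hσ, e2])
  have tl := ht l y hy (by rw [hτ, f2])
  have tm := ht m (y * x) (mul_mem hy hx) (by rw [hτ.mul hσ, Perm.mul_apply, e2, f4])
  have tj := Tr_self ht
  have hk := Tr_mem h n1 hd ht n2
  have hl := Tr_mem h n1 hd ht n3
  have hm := Tr_mem h n1 hd ht n4
  have hcQ : d * t k ∈ Qs z i := by
    have : d * t k = (d * x * d⁻¹) * x⁻¹ := by
      rw [← tk, D_inv h hc hd]
      group
    rw [this]
    exact mul_mem (Qsn (R_le_C i (h.D_R j hd)) hx) (inv_mem hx)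
  have h1 : y * (d * t k) * y⁻¹ = t l * t m := by
    rw [← tl, ← tm, ← tk]; group
  have h2 : d * t k * (d * t k) = 1 := by
    calc d * t k * (d * t k) = d * (t k * d) * t k := by group
      _ = d * (d * t k) * t k := by rw [D_comm h hc n5 hd hk]
      _ = (d * d) * (t k * t k) := by group
      _ = 1 := by rw [D_sq h hc hd, D_sq h hc hk, one_mul]
  have h3 : t j * t k * t l * t m = (d * t k) * (y * (d * t k) * y⁻¹) := by
    rw [h1, tj]; group
  rw [h3]
  rcases h.mod (Qs_le i hy) hcQ with h4 | h4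
  · left; rw [h4, h2]
  · right
    rw [h4, ← mul_assoc, h.zc (QC i (Qs_le i hcQ)), mul_assoc, h2, mul_one]

/-- the product of the four images of `d` is `1` -/
def Ker (z : Fin 5 → G) (i j : Fin 5) (d : G) : Prop :=
  ∃ t, Tr z i j d t ∧ ∃ k l m, [i, j, k, l, m].Nodup ∧ t j * t k * t l * t m = 1

/-- independence of the labelling -/
theorem Ker_all (h : Dat S P z) (hc : Char2 S) {i j k l m : Fin 5} (hnd : [i, j, k, l, m].Nodup) {d : G}
    (hd : d ∈ D z j) {t : Fin 5 → G} (ht : Tr z i j d t) (hK : Ker z i j d) : t j * t k * t l * t m = 1 := by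
  obtain ⟨t', ht', k', l', m', hnd', h1⟩ := hK
  obtain ⟨n1, n2, n3, n4, n5, n6, n7, n8, n9, n10⟩ := nd hnd
  obtain ⟨n1', n2', n3', n4', n5', n6', n7', n8', n9', n10'⟩ := nd hnd'
  rw [Tr_unique h n1 ht' ht n1', Tr_unique h n1 ht' ht n2', Tr_unique h n1 ht' ht n3',
    Tr_unique h n1 ht' ht n4'] at h1
  have hk := Tr_mem h n1 hd ht n2
  have hl := Tr_mem h n1 hd ht n3
  have hm := Tr_mem h n1 hd ht n4
  have ckl := D_comm h hc n8 hk hl
  have ckm := D_comm h hc n9 hk hm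
  have clm := D_comm h hc n10 hl hm
  have key : t k' * t l' * t m' = t k * t l * t m := by
    rcases five i j k l m k' hnd with r | r | r | r | r
    · exact absurd r n2'.symm
    · exact absurd r n5'.symm
    · rcases five i j k l m l' hnd with s | s | s | s | s
      · exact absurd s n3'.symm
      · exact absurd s n6'.symm
      · exact absurd (r.trans s.symm) n8'
      · rcases five i j k l m m' hnd with u | u | u | u | u
        · exact absurd u n4'.symm
        · exact absurd u n7'.symm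
        · exact absurd (r.trans u.symm) n9'
        · exact absurd (s.trans u.symm) n10'
        · rw [r, s, u]
      · rcases five i j k l m m' hnd with u | u | u | u | u
        · exact absurd u n4'.symm
        · exact absurd u n7'.symm
        · exact absurd (r.trans u.symm) n9'
        · rw [r, s, u, mul_assoc, ← clm, ← mul_assoc]
        · exact absurd (s.trans u.symm) n10'
    · rcases five i j k l m l' hnd with s | s | s | s | s
      · exact absurd s n3'.symm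
      · exact absurd s n6'.symm
      · rcases five i j k l m m' hnd with u | u | u | u | u
        · exact absurd u n4'.symm
        · exact absurd u n7'.symm
        · exact absurd (s.trans u.symm) n10'
        · exact absurd (r.trans u.symm) n9'
        · rw [r, s, u, ← ckl]
      · exact absurd (r.trans s.symm) n8'
      · rcases five i j k l m m' hnd with u | u | u | u | u
        · exact absurd u n4'.symm
        · exact absurd u n7'.symm
        · rw [r, s, u, mul_assoc, ← ckm, ← mul_assoc, ← ckl]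
        · exact absurd (r.trans u.symm) n9'
        · exact absurd (s.trans u.symm) n10'
    · rcases five i j k l m l' hnd with s | s | s | s | s
      · exact absurd s n3'.symm
      · exact absurd s n6'.symm
      · rcases five i j k l m m' hnd with u | u | u | u | u
        · exact absurd u n4'.symm
        · exact absurd u n7'.symm
        · exact absurd (s.trans u.symm) n10'
        · rw [r, s, u, ← ckm, mul_assoc, ← clm, ← mul_assoc]
        · exact absurd (r.trans u.symm) n9'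
      · rcases five i j k l m m' hnd with u | u | u | u | u
        · exact absurd u n4'.symm
        · exact absurd u n7'.symm
        · rw [r, s, u, ← clm, mul_assoc, ← ckm, ← mul_assoc, ← ckl, mul_assoc]
        · exact absurd (s.trans u.symm) n10'
        · exact absurd (r.trans u.symm) n9'
      · exact absurd (r.trans s.symm) n8'
  calc t j * t k * t l * t m = t j * (t k * t l * t m) := by group
    _ = t j * t k' * t l' * t m' := by rw [← key]; group
    _ = 1 := h1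

theorem Ker_conj {i j : Fin 5} {d p : G} {σ : Perm (Fin 5)} (hp : Act z p σ) (hK : Ker z i j d) :
    Ker z (σ i) (σ j) (p * d * p⁻¹) := by
  obtain ⟨t, ht, k, l, m, hnd, h1⟩ := hK
  obtain ⟨n1, n2, n3, n4, n5, n6, n7, n8, n9, n10⟩ := nd hnd
  refine ⟨fun a => p * t (σ⁻¹ a) * p⁻¹, ?_, σ k, σ l, σ m, ?_, ?_⟩
  · intro a x hx hxa
    have h2 : p⁻¹ * x * p ∈ Qs z i := by
      have := hp.inv.mapQs hx
      rwa [show σ⁻¹ (σ i) = i from σ.symm_apply_apply i, inv_inv] at this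
    have h3 : p⁻¹ * x * p * z j * (p⁻¹ * x * p)⁻¹ = z (σ⁻¹ a) := by
      have h4 : p⁻¹ * x * p * z j * (p⁻¹ * x * p)⁻¹ = p⁻¹ * (x * (p * z j * p⁻¹) * x⁻¹) * p⁻¹⁻¹ := by group
      rw [h4, hp, hxa, hp.inv]
    have h5 := ht _ _ h2 h3
    show x * (p * d * p⁻¹) * x⁻¹ = p * t (σ⁻¹ a) * p⁻¹
    rw [← h5]; group
  · have hi := σ.injective
    exact nd_iff.2 ⟨hi.ne n1, hi.ne n2, hi.ne n3, hi.ne n4, hi.ne n5, hi.ne n6, hi.ne n7, hi.ne n8,
      hi.ne n9, hi.ne n10⟩
  · have e : ∀ a, σ⁻¹ (σ a) = a := fun a => σ.symm_apply_apply a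
    simp only [e]
    have : p * t j * p⁻¹ * (p * t k * p⁻¹) * (p * t l * p⁻¹) * (p * t m * p⁻¹) =
      p * (t j * t k * t l * t m) * p⁻¹ := by group
    rw [this, h1]; group

/-- independence of the point `i` -/
theorem Ker_point (h : Dat S P z) {i i' j : Fin 5} (hij : i ≠ j) (hij' : i' ≠ j) {d : G} (hd : d ∈ D z j)
    (hK : Ker z i j d) : Ker z i' j d := by
  obtain ⟨w, hw, σ, hσ, e1, e2⟩ := ex_to h hij.symm hij'.symm
  have h1 := Ker_conj hσ hK
  have h2 : w * d * w⁻¹ = d := by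
    rw [mem_centralizer_iff.1 hd.2 w hw]; group
  rwa [e1, e2, h2] at h1

theorem not_Ker_z (h : Dat S P z) (hc : Char2 S) {i j : Fin 5} (hij : i ≠ j) : ¬ Ker z i j (z j) := by
  intro hK
  obtain ⟨k, l, m, hnd⟩ := ext2 i j hij
  have h1 := Ker_all h hc hnd (h.z_D j) Tr_z hK
  have h2 := h.prod' hnd
  apply h.ne_one i
  calc z i = (z i * z j * z k * z l * z m) * (z j * z k * z l * z m)⁻¹ := by group
    _ = 1 := by rw [h1, h2]; group

/-- the elements of `D_j` with trivial product -/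
def K (h : Dat S P z) (hc : Char2 S) (j i : Fin 5) (hij : i ≠ j) : Subgroup G where
  carrier := {d | d ∈ D z j ∧ Ker z i j d}
  one_mem' := by
    refine ⟨one_mem _, fun _ => 1, fun a x _ _ => by group, ?_⟩
    obtain ⟨k, l, m, hnd⟩ := ext2 i j hij
    exact ⟨k, l, m, hnd, by simp⟩
  mul_mem' := by
    rintro a b ⟨ha, haK⟩ ⟨hb, hbK⟩
    refine ⟨mul_mem ha hb, ?_⟩
    obtain ⟨k, l, m, hnd⟩ := ext2 i j hij
    obtain ⟨n1, n2, n3, n4, n5, n6, n7, n8, n9, n10⟩ := nd hnd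
    obtain ⟨t, ht⟩ := exists_Tr h hc hij ha
    obtain ⟨u, hu⟩ := exists_Tr h hc hij hb
    have h1 := Ker_all h hc hnd ha ht haK
    have h2 := Ker_all h hc hnd hb hu hbK
    refine ⟨_, Tr_mul ht hu, k, l, m, hnd, ?_⟩
    have tk := Tr_mem h hij ha ht n2
    have tl := Tr_mem h hij ha ht n3
    have tm := Tr_mem h hij ha ht n4
    have uj := Tr_mem h hij hb hu hij
    have uk := Tr_mem h hij hb hu n2
    have ul := Tr_mem h hij hb hu n3
    have c1 := D_comm h hc n5 uj tk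
    have c2 := D_comm h hc n6 uj tl
    have c3 := D_comm h hc n7 uj tm
    have c4 := D_comm h hc n8 uk tl
    have c5 := D_comm h hc n9 uk tm
    have c6 := D_comm h hc n10 ul tm
    calc t j * u j * (t k * u k) * (t l * u l) * (t m * u m)
        = t j * (u j * t k) * u k * t l * (u l * t m) * u m := by group
      _ = t j * t k * (u j * (u k * t l) * t m) * u l * u m := by rw [c1, c6]; group
      _ = t j * t k * ((u j * t l) * (u k * t m)) * u l * u m := by rw [c4]; group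
      _ = t j * t k * t l * (u j * t m) * u k * u l * u m := by rw [c2, c5]; group
      _ = (t j * t k * t l * t m) * (u j * u k * u l * u m) := by rw [c3]; group
      _ = 1 := by rw [h1, h2, one_mul]
  inv_mem' := by
    rintro a ⟨ha, haK⟩
    rw [Set.mem_setOf_eq, D_inv h hc ha]
    exact ⟨ha, haK⟩

/-- **Step (6)**: `D_0 = ⟨z_0⟩` if `Ω₁(Z(S)) = ⟨z_0⟩`. -/
theorem D_eq (h : Dat S P z) (hc : Char2 S)
    (hZ : ∀ x ∈ (S : Subgroup G), x * x = 1 → (∀ s ∈ (S : Subgroup G), s * x = x * s) → x = 1 ∨ x = z 0)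
    {d : G} (hd : d ∈ D z 0) : d = 1 ∨ d = z 0 := by
  have h01 : (1 : Fin 5) ≠ 0 := by decide
  have hS : ∀ x ∈ (S : Subgroup G), x ∈ P ∧ x ∈ C z 0 := fun x hx => ⟨h.SP hx, h.SC hx⟩
  have key : K h hc 0 1 h01 = ⊥ := by
    by_contra hK
    have hn : ∀ s ∈ (S : Subgroup G), ∀ x ∈ K h hc 0 1 h01, s * x * s⁻¹ ∈ K h hc 0 1 h01 := by
      intro s hs x hx
      refine ⟨Dn (hS s hs).2 hx.1, ?_⟩
      obtain ⟨σ, hσ⟩ := h.exAct (hS s hs).1
      have h0 : σ 0 = 0 := by
        apply h.inj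
        rw [← hσ 0]
        exact mem_C.1 (hS s hs).2
      have h1 := Ker_conj hσ hx.2
      rw [h0] at h1
      have h10 : σ 1 ≠ 0 := fun h2 => h01 (σ.injective (h2.trans h0.symm))
      exact Ker_point h h10 h01 (Dn (hS s hs).2 hx.1) h1
    obtain ⟨x, hx, hx1, hx2⟩ := exists_central S.isPGroup' (N := K h hc 0 1 h01)
      (fun x hx => h.Q0 (show x ∈ D z 0 from hx.1).1) hn hK
    rcases hZ x (h.Q0 (show x ∈ D z 0 from hx.1).1) (D_sq h hc hx.1) hx2 with h3 | h3
    · exact hx1 h3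
    · rw [h3] at hx
      exact not_Ker_z h hc h01 hx.2
  obtain ⟨k, l, m, hnd⟩ := ext2 1 0 h01
  obtain ⟨n1, n2, n3, n4, n5, n6, n7, n8, n9, n10⟩ := nd hnd
  obtain ⟨t, ht⟩ := exists_Tr h hc h01 hd
  rcases Tr_prod h hc hnd hd ht with h1 | h1
  · left
    have : d ∈ K h hc 0 1 h01 := ⟨hd, t, ht, k, l, m, hnd, h1⟩
    rw [key] at this
    exact mem_bot.1 this
  · right
    have h2 : d * z 0 ∈ K h hc 0 1 h01 := by
      refine ⟨mul_mem hd (h.z_D 0), _, Tr_mul ht Tr_z, k, l, m, hnd, ?_⟩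
      have tj := Tr_mem h h01 hd ht h01
      have tk := Tr_mem h h01 hd ht n2
      have tl := Tr_mem h h01 hd ht n3
      have tm := Tr_mem h h01 hd ht n4
      have c1 := D_z h tk 0
      have c2 := D_z h tl 0
      have c3 := D_z h tm 0
      have c4 := D_z h tl k
      have c5 := D_z h tm k
      have c6 := D_z h tm l
      have h4 : z 0 * z k * z l * z m = z 1 := by
        have := h.prod' hnd
        calc z 0 * z k * z l * z m = (z 1)⁻¹ * (z 1 * z 0 * z k * z l * z m) := by group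
          _ = z 1 := by rw [this, mul_one, h.zinv]
      calc t 0 * z 0 * (t k * z k) * (t l * z l) * (t m * z m)
          = t 0 * (z 0 * t k) * z k * t l * (z l * t m) * z m := by group
        _ = t 0 * t k * (z 0 * (z k * t l) * t m) * z l * z m := by rw [← c1, ← c6]; group
        _ = t 0 * t k * ((z 0 * t l) * (z k * t m)) * z l * z m := by rw [← c4]; group
        _ = t 0 * t k * t l * (z 0 * t m) * z k * z l * z m := by rw [← c2, ← c5]; group
        _ = (t 0 * t k * t l * t m) * (z 0 * z k * z l * z m) := by rw [← c3]; group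
        _ = 1 := by rw [h1, h4, h.sq]
    rw [key] at h2
    have h3 := mem_bot.1 h2
    rw [eq_inv_of_mul_eq_one_left h3, h.zinv]

end Cfsg.Agent.Omega.NOne.BetaTwo.DTwo
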